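import Groth.Agent.IsoNatClean.Aut
import Groth.Agent.AlgSpLib.FormalLocal

/-!
# Operations on vertical endomorphisms, and test objects over the empty scheme
-/

set_option autoImplicit false
set_option backward.isDefEq.respectTransparency false
set_option backward.isDefEq.respectTransparency.types false

universe u

open CategoryTheory CategoryTheory.Limits AlgebraicGeometry AlgSp FibCat FibLib AlgStLib IsoNat IsoNatLib IsoNatUnr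
open CategoryTheory.Functor (Fiber IsStronglyCartesian)

noncomputable section

namespace IsoNatClean

variable {S : Scheme.{u}} {𝒳 : AlgSt.Cat S} [IsFibGrpd 𝒳.p] {V : Over S} (Y : overCat V ⥤ᵇ 𝒳)

omit [IsFibGrpd 𝒳.p] in
lemma comp_vert {o : Over V} {a b : Y.obj o ⟶ Y.obj o} (ha : 𝒳.p.IsHomLift (𝟙 o.left) a)
    (hb : 𝒳.p.IsHomLift (𝟙 o.left) b) : 𝒳.p.IsHomLift (𝟙 o.left) (a ≫ b) := by
  haveI := ha; haveI := hb
  exact IsHomLift.comp_lift_id_right 𝒳.p (𝟙 o.left) a b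

lemma pbv_one {o o' : Over V} (m : o ⟶ o') : pbv Y m (𝟙 _) (lift_id Y o') = 𝟙 _ :=
  (eq_pbv Y m _ _ (lift_id Y o) (by rw [Category.id_comp, Category.comp_id])).symm

lemma pbv_idmap {o : Over V} (a : Y.obj o ⟶ Y.obj o) (ha : 𝒳.p.IsHomLift (𝟙 o.left) a) :
    pbv Y (𝟙 o) a ha = a :=
  (eq_pbv Y (𝟙 o) a ha ha (by
    change a ≫ Y.toFunctor.map (𝟙 o) = Y.toFunctor.map (𝟙 o) ≫ a
    rw [Y.toFunctor.map_id, Category.comp_id, Category.id_comp])).symm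

lemma pbv_congr {o o' : Over V} {m m' : o ⟶ o'} (e : m = m') (a : Y.obj o' ⟶ Y.obj o')
    (ha : 𝒳.p.IsHomLift (𝟙 o'.left) a) : pbv Y m a ha = pbv Y m' a ha := by subst e; rfl

lemma pbv_congr' {o o' : Over V} (m : o ⟶ o') {a a' : Y.obj o' ⟶ Y.obj o'} (e : a = a')
    (ha : 𝒳.p.IsHomLift (𝟙 o'.left) a) (ha' : 𝒳.p.IsHomLift (𝟙 o'.left) a') :
    pbv Y m a ha = pbv Y m a' ha' := by subst e; rfl

lemma pbv_pbv {o o' o'' : Over V} (m : o ⟶ o') (h : o' ⟶ o'') (a : Y.obj o'' ⟶ Y.obj o'')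
    (ha : 𝒳.p.IsHomLift (𝟙 o''.left) a) :
    pbv Y m (pbv Y h a ha) (pbv_lift Y h a ha) = pbv Y (m ≫ h) a ha :=
  (eq_pbv Y m _ _ (pbv_lift Y (m ≫ h) a ha) (pbv_comp Y m h a ha)).symm

lemma pbv_mul {o o' : Over V} (m : o ⟶ o') (a b : Y.obj o' ⟶ Y.obj o') (ha : 𝒳.p.IsHomLift (𝟙 o'.left) a)
    (hb : 𝒳.p.IsHomLift (𝟙 o'.left) b) :
    pbv Y m (a ≫ b) (comp_vert Y ha hb) = pbv Y m a ha ≫ pbv Y m b hb :=
  (eq_pbv Y m _ _ (comp_vert Y (pbv_lift Y m a ha) (pbv_lift Y m b hb)) (by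
    rw [Category.assoc, pbv_fac, ← Category.assoc, pbv_fac, Category.assoc])).symm

omit [IsFibGrpd 𝒳.p] in
/-- Sections over the empty scheme agree. -/
lemma sec_ext_of_empty {H : Sp S} {T : Over S} (hT : IsEmpty T.left) (a b : (yon S).obj T ⟶ H) : a = b :=
  AlgSpLib.hom_ext_of_cover (κ := PEmpty.{u + 1}) (Tk := fun k => k.elim) (fun k => k.elim) (fun k => k.elim)
    (fun k => k.elim) (fun t => (hT.false t).elim) fun k => k.elim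

variable {H : Sp S} {aH : H ⟶ (yon S).obj V} (C : Classifier (inertiaToBase (toSelf 𝒳)) (yV Y) aH)

/-- Morphisms over the same base out of an object lying over the empty scheme agree, for objects mapping to a
value. -/
lemma hom_eq_of_empty (C : Classifier (inertiaToBase (toSelf 𝒳)) (yV Y) aH) {o' : Over V} {a y : 𝒳.obj}
    (u : a ⟶ Y.obj o') (f f' : a ⟶ y) (e : 𝒳.p.map f = 𝒳.p.map f') (hE : IsEmpty (𝒳.p.obj a).left) :
    f = f' := by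
  have hw : 𝒳.p.obj (Y.obj o') = o'.left := Y.w_obj o'
  let gu : 𝒳.p.obj a ⟶ o'.left := 𝒳.p.map u ≫ eqToHom hw
  let o : Over V := Over.mk (gu ≫ o'.hom)
  let m : o ⟶ o' := Over.homMk gu
  haveI hu : 𝒳.p.IsHomLift gu u := IsHomLift.of_fac' 𝒳.p gu u rfl hw (by simp [gu])
  haveI : 𝒳.p.IsHomLift gu (Y.map m) := lift_map Y m
  let θ : a ⟶ Y.obj o := IsStronglyCartesian.map 𝒳.p gu (Y.map m) (g := 𝟙 (𝒳.p.obj a)) (f' := gu)
    (Category.id_comp _).symm u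
  haveI hθ : 𝒳.p.IsHomLift (𝟙 (𝒳.p.obj a)) θ := IsStronglyCartesian.map_isHomLift 𝒳.p gu (Y.map m)
    (g := 𝟙 (𝒳.p.obj a)) (f' := gu) (Category.id_comp _).symm u
  haveI : IsIso θ := isIso_of_isHomLift 𝒳.p (𝟙 (𝒳.p.obj a)) θ
  haveI : 𝒳.p.IsHomLift (𝟙 (𝒳.p.obj a)) (inv θ) :=
    @IsHomLift.lift_id_inv _ _ _ _ 𝒳.p _ _ _ (asIso θ) hθ
  haveI : 𝒳.p.IsHomLift (𝒳.p.map f) f := IsHomLift.map 𝒳.p f
  haveI : 𝒳.p.IsHomLift (𝒳.p.map f) f' := by rw [e]; exact IsHomLift.map 𝒳.p f'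
  haveI h1 : 𝒳.p.IsHomLift (𝒳.p.map f) (inv θ ≫ f) :=
    IsHomLift.comp_lift_id_left 𝒳.p (𝒳.p.map f) f (inv θ)
  haveI h2 : 𝒳.p.IsHomLift (𝒳.p.map f) (inv θ ≫ f') :=
    IsHomLift.comp_lift_id_left 𝒳.p (𝒳.p.map f) f' (inv θ)
  let α : Y.obj o ⟶ Y.obj o := IsStronglyCartesian.map 𝒳.p (𝒳.p.map f) (inv θ ≫ f) (g := 𝟙 o.left)
    (f' := 𝒳.p.map f) (Category.id_comp _).symm (inv θ ≫ f')
  have hα : 𝒳.p.IsHomLift (𝟙 o.left) α := IsStronglyCartesian.map_isHomLift 𝒳.p (𝒳.p.map f) (inv θ ≫ f)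
    (g := 𝟙 o.left) (f' := 𝒳.p.map f) (Category.id_comp _).symm (inv θ ≫ f')
  have hfac : α ≫ inv θ ≫ f = inv θ ≫ f' := IsStronglyCartesian.fac 𝒳.p (𝒳.p.map f) (inv θ ≫ f)
    (g := 𝟙 o.left) (f' := 𝒳.p.map f) (Category.id_comp _).symm (inv θ ≫ f')
  rw [acls_inj Y C hα (lift_id Y o) (sec_ext_of_empty hE _ _), Category.id_comp] at hfac
  exact (cancel_epi (inv θ)).1 hfac

omit [IsFibGrpd 𝒳.p] in
/-- A common factor lying over a monomorphism cancels. -/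
lemma eq_of_comp_eq [IsFibGrpd 𝒳.p] {a b c : 𝒳.obj} {u v : a ⟶ b} (m : b ⟶ c) [Mono (𝒳.p.map m)]
    (e : u ≫ m = v ≫ m) : u = v := by
  have hb : 𝒳.p.map u = 𝒳.p.map v := by
    have := congrArg 𝒳.p.map e
    rw [Functor.map_comp, Functor.map_comp] at this
    exact (cancel_mono (𝒳.p.map m)).1 this
  haveI : 𝒳.p.IsHomLift (𝒳.p.map m) m := IsHomLift.map 𝒳.p m
  haveI : 𝒳.p.IsHomLift (𝒳.p.map u) u := IsHomLift.map 𝒳.p u
  haveI : 𝒳.p.IsHomLift (𝒳.p.map u) v := by rw [hb]; exact IsHomLift.map 𝒳.p v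
  exact IsStronglyCartesian.ext 𝒳.p (𝒳.p.map m) m (𝒳.p.map u) e

end IsoNatClean
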