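import Groth.Agent.AlgStLib.Cover
import Groth.Agent.AlgSpLib.Fppf
import Groth.Agent.FibLib.Yoneda
import Groth.Prelude.Def_W4c2isonaturalstkIso

/-!
# Gluing of morphisms in a stack, and separatedness of classes when all objects are clean
-/

set_option autoImplicit false
set_option backward.isDefEq.respectTransparency false
set_option backward.isDefEq.respectTransparency.types false

universe u

open CategoryTheory CategoryTheory.Limits AlgebraicGeometry AlgSp FibCat FibLib AlgStLib IsoNat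
open CategoryTheory.Functor (Fiber IsPreFibered IsStronglyCartesian)

noncomputable section

namespace IsoNatClean

variable {S : Scheme.{u}} {𝒳 : AlgSt.Cat S}

/-- The classes are separated for flat coverings. -/
def SepCls (𝒳 : AlgSt.Cat S) : Prop :=
  ∀ (T T' : Over S) (π : T' ⟶ T) [Flat π.left] [Surjective π.left] [LocallyOfFinitePresentation π.left]
    (x₁ x₂ : 𝒳.p.Fiber T) (x₁' x₂' : 𝒳.p.Fiber T') (a₁ : x₁'.1 ⟶ x₁.1) (a₂ : x₂'.1 ⟶ x₂.1),
    𝒳.p.IsHomLift π a₁ → 𝒳.p.IsHomLift π a₂ → Nonempty (x₁' ≅ x₂') → Nonempty (x₁ ≅ x₂)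

variable [IsFibGrpd 𝒳.p]

/-- Morphisms glue in a stack. -/
theorem exists_hom_of_pieces (h : Stk.IsStack (AlgSp.J S) 𝒳) {Q : Over S} (x y : 𝒳.p.Fiber Q) {κ : Type u}
    {Tk : κ → Over S} (c : ∀ k, Tk k ⟶ Q) (hc₁ : ∀ k, Flat (c k).left)
    (hc₂ : ∀ k, LocallyOfFinitePresentation (c k).left) (hc₃ : ∀ q : Q.left, ∃ k, q ∈ Set.range (c k).left)
    {P : κ → 𝒳.obj} (p : ∀ k, P k ⟶ x.1) (hp : ∀ k, 𝒳.p.IsHomLift (c k) (p k))
    (f : ∀ k, P k ⟶ y.1) (hf : ∀ k, 𝒳.p.IsHomLift (c k) (f k))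
    (compat : ∀ (a : 𝒳.obj) (i j : κ) (u : a ⟶ P i) (v : a ⟶ P j), u ≫ p i = v ≫ p j → u ≫ f i = v ≫ f j) :
    ∃ m : x.1 ⟶ y.1, 𝒳.p.IsHomLift (𝟙 Q) m ∧ ∀ k, p k ≫ m = f k := by
  let R : Sieve Q := Sieve.ofArrows Tk c
  have hR : R ∈ AlgSp.J S Q := AlgSpLib.ofArrows_mem_J c hc₁ hc₂ hc₃
  haveI : (Stk.resSieve R 𝒳).IsEquivalence := h.2 R hR
  have mem : ∀ {T : Over S} (g : T ⟶ Q), R.arrows g → ∃ k, ∃ d : T ⟶ Tk k, d ≫ c k = g := by
    rintro T g ⟨W, e, f', hf', rfl⟩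
    obtain ⟨i⟩ := hf'
    exact ⟨i, e, rfl⟩
  have val : ∀ {T : Over S} (g : T ⟶ Q), R.arrows g →
      ∃ F : IsPreFibered.pullbackObj x.2 g ⟶ y.1, 𝒳.p.IsHomLift g F ∧
        (∀ (k : κ) (u : IsPreFibered.pullbackObj x.2 g ⟶ P k),
          u ≫ p k = IsPreFibered.pullbackMap x.2 g → u ≫ f k = F) ∧
        ∃ (k : κ) (u : IsPreFibered.pullbackObj x.2 g ⟶ P k), u ≫ p k = IsPreFibered.pullbackMap x.2 g := by
    intro T g hg
    obtain ⟨k, d, rfl⟩ := mem g hg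
    haveI := hp k
    haveI := hf k
    let u := IsStronglyCartesian.map 𝒳.p (c k) (p k) (g := d) (f' := d ≫ c k) rfl
      (IsPreFibered.pullbackMap x.2 (d ≫ c k))
    have e : u ≫ p k = IsPreFibered.pullbackMap x.2 (d ≫ c k) :=
      IsStronglyCartesian.fac 𝒳.p (c k) (p k) (g := d) (f' := d ≫ c k) rfl
        (IsPreFibered.pullbackMap x.2 (d ≫ c k))
    haveI : 𝒳.p.IsHomLift d u := IsStronglyCartesian.map_isHomLift 𝒳.p (c k) (p k) (g := d) (f' := d ≫ c k) rfl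
      (IsPreFibered.pullbackMap x.2 (d ≫ c k))
    exact ⟨u ≫ f k, inferInstance, fun k' u' e' => compat _ k' k u' u (e'.trans e.symm), k, u, e⟩
  choose F hF hFu hFe using @val
  let vy : ∀ g : (Stk.sieveCat R).obj,
      IsPreFibered.pullbackObj x.2 g.obj.hom ⟶ IsPreFibered.pullbackObj y.2 g.obj.hom := fun g =>
    haveI := hF g.obj.hom g.property
    IsStronglyCartesian.map 𝒳.p g.obj.hom (IsPreFibered.pullbackMap y.2 g.obj.hom) (g := 𝟙 g.obj.left)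
      (f' := g.obj.hom) (Category.id_comp _).symm (F g.obj.hom g.property)
  have vyl : ∀ g : (Stk.sieveCat R).obj, 𝒳.p.IsHomLift (𝟙 g.obj.left) (vy g) := fun g => by
    haveI := hF g.obj.hom g.property
    exact IsStronglyCartesian.map_isHomLift 𝒳.p g.obj.hom (IsPreFibered.pullbackMap y.2 g.obj.hom)
      (g := 𝟙 g.obj.left) (f' := g.obj.hom) (Category.id_comp _).symm (F g.obj.hom g.property)
  have vyf : ∀ g : (Stk.sieveCat R).obj,
      vy g ≫ IsPreFibered.pullbackMap y.2 g.obj.hom = F g.obj.hom g.property := fun g => by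
    haveI := hF g.obj.hom g.property
    exact IsStronglyCartesian.fac 𝒳.p g.obj.hom (IsPreFibered.pullbackMap y.2 g.obj.hom)
      (g := 𝟙 g.obj.left) (f' := g.obj.hom) (Category.id_comp _).symm (F g.obj.hom g.property)
  let τ : BasedFunctor.comp (Stk.sieveIncl R) (ofPoint x) ⟶ BasedFunctor.comp (Stk.sieveIncl R) (ofPoint y) :=
    { toNatTrans :=
        { app := vy
          naturality := fun g' g m => by
            change pbMap x m.hom.left (Over.w m.hom) ≫ vy g = vy g' ≫ pbMap y m.hom.left (Over.w m.hom)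
            haveI := vyl g
            haveI := vyl g'
            haveI := pbMap_lift x m.hom.left (Over.w m.hom)
            haveI := pbMap_lift y m.hom.left (Over.w m.hom)
            haveI h1 : 𝒳.p.IsHomLift m.hom.left (pbMap x m.hom.left (Over.w m.hom) ≫ vy g) :=
              IsHomLift.comp_lift_id_right 𝒳.p m.hom.left (pbMap x m.hom.left (Over.w m.hom)) (vy g)
            haveI h2 : 𝒳.p.IsHomLift m.hom.left (vy g' ≫ pbMap y m.hom.left (Over.w m.hom)) :=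
              IsHomLift.comp_lift_id_left 𝒳.p m.hom.left (pbMap y m.hom.left (Over.w m.hom)) (vy g')
            apply IsStronglyCartesian.ext 𝒳.p g.obj.hom (IsPreFibered.pullbackMap y.2 g.obj.hom) m.hom.left
            rw [Category.assoc, Category.assoc, pbMap_fac, vyf, vyf]
            obtain ⟨k, u, e⟩ := hFe g.obj.hom g.property
            rw [← hFu g.obj.hom g.property k u e, ← Category.assoc]
            exact hFu g'.obj.hom g'.property k _ (by rw [Category.assoc, e, pbMap_fac]) }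
      isHomLift' := vyl }
  obtain ⟨θ, hθ⟩ : ∃ θ : ofPoint x ⟶ ofPoint y, (Stk.resSieve R 𝒳).map θ = τ :=
    ⟨_, (Stk.resSieve R 𝒳).map_preimage τ⟩
  haveI : IsIso (IsPreFibered.pullbackMap x.2 (𝟙 Q)) := IsStronglyCartesian.isIso_of_base_isIso 𝒳.p (𝟙 Q) _
  haveI hix : 𝒳.p.IsHomLift (𝟙 Q) (IsPreFibered.pullbackMap x.2 (𝟙 Q)) := inferInstance
  haveI : 𝒳.p.IsHomLift (𝟙 Q) (inv (IsPreFibered.pullbackMap x.2 (𝟙 Q))) :=
    @IsHomLift.lift_id_inv _ _ _ _ 𝒳.p _ _ _ (asIso (IsPreFibered.pullbackMap x.2 (𝟙 Q))) hix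
  haveI : 𝒳.p.IsHomLift (𝟙 Q) (θ.toNatTrans.app (Over.mk (𝟙 Q))) := BasedNatTrans.isHomLift θ rfl
  let m : x.1 ⟶ y.1 :=
    inv (IsPreFibered.pullbackMap x.2 (𝟙 Q)) ≫ θ.toNatTrans.app (Over.mk (𝟙 Q)) ≫
      IsPreFibered.pullbackMap y.2 (𝟙 Q)
  refine ⟨m, ?_, fun k => ?_⟩
  · haveI : 𝒳.p.IsHomLift (𝟙 Q) (θ.toNatTrans.app (Over.mk (𝟙 Q)) ≫ IsPreFibered.pullbackMap y.2 (𝟙 Q)) :=
      IsHomLift.comp_lift_id_left 𝒳.p (𝟙 Q) (IsPreFibered.pullbackMap y.2 (𝟙 Q))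
        (θ.toNatTrans.app (Over.mk (𝟙 Q)))
    exact IsHomLift.comp_lift_id_left 𝒳.p (𝟙 Q)
      (θ.toNatTrans.app (Over.mk (𝟙 Q)) ≫ IsPreFibered.pullbackMap y.2 (𝟙 Q))
      (inv (IsPreFibered.pullbackMap x.2 (𝟙 Q)))
  have hk : R.arrows (c k) := Sieve.le_generate _ _ _ (Presieve.ofArrows.mk k)
  let gk : (Stk.sieveCat R).obj := ⟨Over.mk (c k), hk⟩
  haveI := hp k
  let u := IsStronglyCartesian.map 𝒳.p (c k) (p k) (g := 𝟙 (Tk k)) (f' := c k) (Category.id_comp _).symm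
    (IsPreFibered.pullbackMap x.2 (c k))
  have eu : u ≫ p k = IsPreFibered.pullbackMap x.2 (c k) :=
    IsStronglyCartesian.fac 𝒳.p (c k) (p k) (g := 𝟙 (Tk k)) (f' := c k) (Category.id_comp _).symm
      (IsPreFibered.pullbackMap x.2 (c k))
  haveI hu : 𝒳.p.IsHomLift (𝟙 (Tk k)) u := IsStronglyCartesian.map_isHomLift 𝒳.p (c k) (p k) (g := 𝟙 (Tk k))
    (f' := c k) (Category.id_comp _).symm (IsPreFibered.pullbackMap x.2 (c k))
  haveI : IsIso u := isIso_of_isHomLift 𝒳.p (𝟙 (Tk k)) u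
  have hfac : ∀ (z : 𝒳.p.Fiber Q), (ofPoint z).map (toId (Over.mk (c k))) ≫ IsPreFibered.pullbackMap z.2 (𝟙 Q) =
      IsPreFibered.pullbackMap z.2 (c k) := fun z => pbMap_fac z (toId (Over.mk (c k))).left (Over.w (toId (Over.mk (c k))))
  have hn := θ.toNatTrans.naturality (toId (Over.mk (c k)))
  have hθk : θ.toNatTrans.app (Over.mk (c k)) = vy gk := congrArg (fun t => t.toNatTrans.app gk) hθ
  rw [← cancel_epi u, ← Category.assoc, eu, ← hfac x, Category.assoc]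
  simp only [m, IsIso.hom_inv_id_assoc]
  rw [← Category.assoc]
  erw [hn, hθk, Category.assoc, hfac y]
  exact (vyf gk).trans (hFu (c k) hk k u eu).symm

/-- Morphisms over the same base into an object are equal when every object is clean. -/
lemma hom_unique_of_clean (hcl : ∀ η : 𝒳.obj, IsClean η) {a b : 𝒳.obj} (f f' : a ⟶ b)
    (e : 𝒳.p.map f = 𝒳.p.map f') : f = f' := by
  haveI : 𝒳.p.IsHomLift (𝒳.p.map f) f := IsHomLift.map 𝒳.p f
  haveI : 𝒳.p.IsHomLift (𝒳.p.map f) f' := by rw [e]; exact IsHomLift.map 𝒳.p f'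
  let α := IsStronglyCartesian.map 𝒳.p (𝒳.p.map f) f (g := 𝟙 (𝒳.p.obj a)) (f' := 𝒳.p.map f)
    (Category.id_comp _).symm f'
  haveI : 𝒳.p.IsHomLift (𝟙 (𝒳.p.obj a)) α := IsStronglyCartesian.map_isHomLift 𝒳.p (𝒳.p.map f) f
    (g := 𝟙 (𝒳.p.obj a)) (f' := 𝒳.p.map f) (Category.id_comp _).symm f'
  have hfac : α ≫ f = f' := IsStronglyCartesian.fac 𝒳.p (𝒳.p.map f) f (g := 𝟙 (𝒳.p.obj a))
    (f' := 𝒳.p.map f) (Category.id_comp _).symm f'
  have hα : α = 𝟙 a := hcl a a (𝟙 a) α (by simpa using IsHomLift.fac' 𝒳.p (𝟙 (𝒳.p.obj a)) α)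
  rw [← hfac, hα, Category.id_comp]

/-- If every object is clean, the classes are separated. -/
theorem sepCls_of_clean (h : Stk.IsStack (AlgSp.J S) 𝒳) (hcl : ∀ η : 𝒳.obj, IsClean η) : SepCls 𝒳 := by
  intro T T' π _ _ _ x₁ x₂ x₁' x₂' a₁ a₂ ha₁ ha₂ ⟨i⟩
  haveI := i.hom.2
  haveI := ha₂
  have hf : 𝒳.p.IsHomLift π (i.hom.1 ≫ a₂) := IsHomLift.comp_lift_id_left 𝒳.p π a₂ i.hom.1
  obtain ⟨m, hm, -⟩ := exists_hom_of_pieces h x₁ x₂ (κ := PUnit.{u + 1}) (fun _ => π) (fun _ => inferInstance)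
    (fun _ => inferInstance) (fun q => ⟨⟨⟩, π.left.surjective q⟩) (fun _ => a₁) (fun _ => ha₁)
    (fun _ => i.hom.1 ≫ a₂) (fun _ => hf)
    (fun a _ _ u v e => hom_unique_of_clean hcl _ _ (by
      haveI := ha₁
      haveI := hf
      have h' : 𝒳.p.map (i.hom.1 ≫ a₂) = 𝒳.p.map a₁ ≫ eqToHom (x₁.2.trans x₂.2.symm) := by
        rw [IsHomLift.fac' 𝒳.p π (i.hom.1 ≫ a₂), IsHomLift.fac' 𝒳.p π a₁]
        simp
      have e' := congrArg 𝒳.p.map e
      simp only [Functor.map_comp] at e'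
      rw [Functor.map_comp 𝒳.p u, Functor.map_comp 𝒳.p v, h', ← Category.assoc, e', Category.assoc]))
  haveI := hm
  haveI : IsIso m := isIso_of_isHomLift 𝒳.p (𝟙 T) m
  exact ⟨fiberIso 𝒳.p (asIso m) hm⟩

end IsoNatClean
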