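import Groth.Agent.IsoNatClean.Main
import Groth.Agent.AlgStLib.Classes
import Groth.Agent.AlgStLib.Rows5
import Groth.Agent.AlgSpLib.RepSpBase

/-!
# Setoid stacks with an etale atlas, and transfer of separatedness of classes
-/

set_option autoImplicit false
set_option backward.isDefEq.respectTransparency false
set_option backward.isDefEq.respectTransparency.types false

universe u

open CategoryTheory CategoryTheory.Limits AlgebraicGeometry Opposite AlgSp FibCat FibLib AlgSpLib AlgStLib IsoNat IsoNatLib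
open CategoryTheory.Functor (Fiber IsStronglyCartesian)

noncomputable section

namespace IsoNatClean

variable {S : Scheme.{u}} {𝒳 𝒴 : AlgSt.Cat S} [IsFibGrpd 𝒳.p] [IsFibGrpd 𝒴.p]

/-- The inertia is separated when the diagonal is separated and quasi-compact. -/
lemma separated_inertia
    (h : AlgSt.RepByAlgSpWith (AlgSp.IsSeparatedMor ⊓ AlgSp.IsQuasiCompactMor) (diag (toSelf 𝒳))) :
    AlgSt.RepByAlgSpWith AlgSp.IsSeparatedMor (inertiaToBase (toSelf 𝒳)) :=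
  (repByAlgSpWith_inertiaToBase_iff (toSelf 𝒳) _).2
    (repByAlgSpWith_fpFst _ (diag (toSelf 𝒳)) (repByAlgSpWith_mono (fun _ _ _ _ _ hP => hP.1) h))

omit [IsFibGrpd 𝒳.p] in
lemma clean_of_setoid [IsFibGrpd 𝒳.p] (h : IsFibSetoid 𝒳.p) (η : 𝒳.obj) : IsClean η := by
  intro x _ s hs
  haveI := h.2 (𝒳.p.obj x)
  haveI : 𝒳.p.IsHomLift (𝟙 (𝒳.p.obj x)) s :=
    IsHomLift.of_fac' 𝒳.p (𝟙 (𝒳.p.obj x)) s rfl rfl (by simp [hs])
  let xf : 𝒳.p.Fiber (𝒳.p.obj x) := Fiber.mk (p := 𝒳.p) (a := x) rfl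
  have e : (Fiber.homMk 𝒳.p (𝒳.p.obj x) s : xf ⟶ xf) = 𝟙 xf := Subsingleton.elim _ _
  exact congrArg Subtype.val e

lemma isFibSetoid_of_clean (hcl : ∀ η : 𝒳.obj, IsClean η) : IsFibSetoid 𝒳.p := by
  refine ⟨inferInstance, fun U a b => ⟨fun f g => Subtype.ext (hom_unique_of_clean hcl f.1 g.1 ?_)⟩⟩
  haveI := f.2
  haveI := g.2
  rw [IsHomLift.fac' 𝒳.p (𝟙 U) f.1, IsHomLift.fac' 𝒳.p (𝟙 U) g.1]

/-- Separatedness of classes is transported along isomorphisms of presheaves of classes. -/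
theorem sepCls_of_fIso (φ : FIso 𝒳 𝒴) (h : SepCls 𝒳) : SepCls 𝒴 := by
  intro T T' π _ _ _ y₁ y₂ y₁' y₂' a₁ a₂ ha₁ ha₂ hiso
  have rep : ∀ {V : Over S} (y : 𝒴.p.Fiber V), ∃ x : 𝒳.p.Fiber V, (symm φ).toEquiv V (cls y) = cls x := fun y =>
    let ⟨x, hx⟩ := Quotient.exists_rep ((symm φ).toEquiv _ (cls y))
    ⟨x, hx.symm⟩
  obtain ⟨x₁, h₁⟩ := rep y₁
  obtain ⟨x₂, h₂⟩ := rep y₂
  obtain ⟨x₁', h₁'⟩ := rep y₁'
  obtain ⟨x₂', h₂'⟩ := rep y₂'
  obtain ⟨b₁, hb₁⟩ := exists_hom_transport (symm φ) π a₁ ha₁ h₁' h₁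
  obtain ⟨b₂, hb₂⟩ := exists_hom_transport (symm φ) π a₂ ha₂ h₂' h₂
  have e' : cls y₁' = cls y₂' := Quotient.sound hiso
  have hx : cls x₁' = cls x₂' := by rw [← h₁', ← h₂', e']
  obtain hx₁ := h T T' π x₁ x₂ x₁' x₂' b₁ b₂ hb₁ hb₂ (Quotient.exact hx)
  have : cls y₁ = cls y₂ := ((symm φ).toEquiv T).injective (by rw [h₁, h₂]; exact Quotient.sound hx₁)
  exact Quotient.exact this

omit [IsFibGrpd 𝒳.p] in
/-- A setoid stack with an etale atlas is an algebraic space. -/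
theorem repByAlgSp_of_etale_atlas [IsFibGrpd 𝒳.p] (hst : Stk.IsStack (AlgSp.J S) 𝒳) (hset : IsFibSetoid 𝒳.p)
    {U : Over S} {x : overCat U ⥤ᵇ 𝒳} (hs : AlgSt.RepByAlgSpWith AlgSp.IsSurjectiveMor x)
    (he : AlgSt.RepByAlgSpWith AlgSp.IsEtaleMor x) : AlgSt.RepByAlgSp 𝒳 := by
  haveI := isFibGrpd_overCat (C := Over S) U
  obtain ⟨Pz, k, hk⟩ := exists_ofPsh_equiv hset
  have hsh : Presheaf.IsSheaf (AlgSp.J S) Pz :=
    (isSheaf_iff_isSheaf_of_type _ _).mpr (isStack_ofPsh_iff.mp ((isStack_iff_of_isEquivOver hk).mpr hst))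
  let F : Sp S := ⟨Pz, hsh⟩
  obtain ⟨k', hk', -, ⟨β⟩⟩ := exists_inverse hk
  let g := BasedFunctor.comp (BasedFunctor.comp (AlgSt.toOverCat U) x) k'
  obtain ⟨α⟩ := nonempty_iso_mapOf g
  let a : (yon S).obj U ⟶ F := ObjectProperty.homMk (mapOf g)
  let e : BasedFunctor.comp (Stk.ofPshMap a.hom) k ≅ BasedFunctor.comp (AlgSt.toOverCat U) x :=
    whiskerRightIso' α.symm k ≪≫ whiskerLeftIso' (BasedFunctor.comp (AlgSt.toOverCat U) x) β
  have hQ : AlgSt.RepByAlgSpWith (IsEtaleMor ⊓ IsSurjectiveMor) x :=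
    repByAlgSpWith_inf good_surjective.bc.precomp_iso he hs
  have hQ' : AlgSt.RepByAlgSpWith (IsEtaleMor ⊓ IsSurjectiveMor) (Stk.ofPshMap a.hom) :=
    (repByAlgSpWith_square_iff (isEquivOver_toOverCat U) hk e _).mp hQ
  have hA : IsAlgSpace F := by
    refine isAlgSpace_of_repBySp_etale_cover (IsAlgSpace.yon_obj U) a ?_
    rw [repBySpWith_hom_iff]
    intro V ξ F' fst snd sq
    obtain ⟨H, π, hH, hπ, hπe, hπs⟩ := (repByAlgSpWith_iff _ _).mp hQ' V (Stk.ofPshMap ξ.hom)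
    obtain ⟨i, hi⟩ := along_hom_unique (along_ofPshMap (isPullback_sheaf sq)) hπ
    rw [← hi]
    refine ⟨hH.of_iso i.symm, good_surjective.bc.precomp_iso i π hH (IsAlgSpace.yon_obj V) hπs, ?_⟩
    exact fun W φ hφ => by
      rw [← Category.assoc]
      exact hπe _ (MorphismProperty.RespectsIso.postcomp _ i.hom φ hφ)
  exact ⟨⟨F, hA⟩, k, hk⟩

end IsoNatClean
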