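import Groth.Agent.IsoNatUnr.Ring

/-!
# Two lines crossing at a point, with the crossing point doubled
-/

set_option autoImplicit false
set_option backward.isDefEq.respectTransparency false
set_option backward.isDefEq.respectTransparency.types false

universe u

open CategoryTheory CategoryTheory.Limits AlgebraicGeometry IsoNatUnr
open Polynomial (X C)

noncomputable section

namespace IsoNatClean

variable (R : Type u) [CommRing R]

/-- Evaluation at the origin. -/
abbrev ev : Polynomial R →+* R := Polynomial.evalRingHom 0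

/-- The ring of two lines crossing at a point. -/
abbrev Ax : Type u := fibRing (ev R) (ev R)

/-- The constants. -/
abbrev cA : R →+* Ax R := fibLift C C rfl

/-- The first coordinate. -/
def aX : Ax R := ⟨(X, 0), show ev R X = ev R 0 by simp⟩

/-- The second coordinate. -/
def bX : Ax R := ⟨(0, X), show ev R 0 = ev R X by simp⟩

lemma aX_mul_bX : aX R * bX R = 0 := Subtype.ext (Prod.ext (mul_zero _) (zero_mul _))

/-- The origin. -/
abbrev oA : Ax R →+* R := (ev R).comp fibFst

lemma oA_aX : oA R (aX R) = 0 := by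
  change ev R X = 0
  simp

lemma oA_bX : oA R (bX R) = 0 := by
  change ev R 0 = 0
  simp

lemma oA_cA : (oA R).comp (cA R) = RingHom.id R := RingHom.ext fun r => by
  change ev R (C r) = r
  simp

/-- The two crossing lines. -/
abbrev X0 : Scheme.{u} := Spec (.of (Ax R))

/-- The first punctured line. -/
abbrev Da : (X0 R).Opens := PrimeSpectrum.basicOpen (aX R)

/-- The second punctured line. -/
abbrev Db : (X0 R).Opens := PrimeSpectrum.basicOpen (bX R)

/-- The complement of the crossing point. -/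
abbrev V0 : (X0 R).Opens := Da R ⊔ Db R

lemma not_mem_Da_Db (x : X0 R) (ha : x ∈ Da R) (hb : x ∈ Db R) : False := by
  have h : aX R * bX R ∈ x.asIdeal := by rw [aX_mul_bX]; exact Ideal.zero_mem _
  rcases x.isPrime.mem_or_mem h with h | h
  · exact ha h
  · exact hb h

/-- The crossing lines with the crossing point doubled. -/
abbrev Dbl : Scheme.{u} := pushout (V0 R).ι (V0 R).ι

/-- The first copy. -/
abbrev dl : X0 R ⟶ Dbl R := pushout.inl _ _

/-- The second copy. -/
abbrev dr : X0 R ⟶ Dbl R := pushout.inr _ _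

instance : IsOpenImmersion (dl R) :=
  inferInstanceAs (IsOpenImmersion (colimit.ι (span (V0 R).ι (V0 R).ι) WalkingSpan.left))

instance : IsOpenImmersion (dr R) :=
  inferInstanceAs (IsOpenImmersion (colimit.ι (span (V0 R).ι (V0 R).ι) WalkingSpan.right))

lemma dbl_cond : (V0 R).ι ≫ dl R = (V0 R).ι ≫ dr R := pushout.condition

lemma dbl_surj (x : Dbl R) : x ∈ Set.range (dl R) ∨ x ∈ Set.range (dr R) := by
  obtain ⟨i, xi, rfl⟩ := Scheme.IsLocallyDirected.ι_jointly_surjective (span (V0 R).ι (V0 R).ι) x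
  rcases i with _ | (_ | _)
  · refine Or.inl ⟨(V0 R).ι xi, ?_⟩
    rw [← Scheme.Hom.comp_apply]
    exact congrArg (fun f => f xi) (colimit.w (span (V0 R).ι (V0 R).ι) (WalkingSpan.Hom.fst))
  · exact Or.inl ⟨xi, rfl⟩
  · exact Or.inr ⟨xi, rfl⟩

lemma mem_of_eq {x y : X0 R} (h : dl R x = dr R y) : x ∈ V0 R := by
  obtain ⟨k, fi, fj, z, hz, -⟩ := (Scheme.IsLocallyDirected.ι_eq_ι_iff (span (V0 R).ι (V0 R).ι)
    (i := WalkingSpan.left) (j := WalkingSpan.right)).1 h
  rcases k with _ | (_ | _)
  · obtain rfl : fi = WalkingSpan.Hom.fst := Subsingleton.elim _ _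
    rw [← hz]
    exact z.2
  · exact nomatch fj
  · exact nomatch fi

lemma dbl_lim {T : Scheme.{u}} (a b : T ⟶ X0 R) (h : a ≫ dl R = b ≫ dr R) :
    ∃ c : T ⟶ (V0 R).toScheme, c ≫ (V0 R).ι = a ∧ c ≫ (V0 R).ι = b := by
  have hle : Set.range a ⊆ Set.range (V0 R).ι := by
    rw [Scheme.Opens.range_ι]
    rintro _ ⟨t, rfl⟩
    exact mem_of_eq R (y := b t) (by rw [← Scheme.Hom.comp_apply, h, Scheme.Hom.comp_apply])
  let c := IsOpenImmersion.lift (V0 R).ι a hle
  have hc : c ≫ (V0 R).ι = a := IsOpenImmersion.lift_fac _ _ _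
  refine ⟨c, hc, (cancel_mono (dr R)).1 ?_⟩
  rw [Category.assoc, ← dbl_cond, reassoc_of% hc, h]

lemma dbl_ne [Nontrivial R] : ¬ ∃ l : X0 R ⟶ X0 R, l ≫ dl R = dr R := by
  rintro ⟨l, hl⟩
  obtain ⟨q⟩ := (inferInstance : Nonempty (PrimeSpectrum R))
  let x : X0 R := PrimeSpectrum.comap (oA R) q
  have hx : dl R (l x) = dr R x := by rw [← Scheme.Hom.comp_apply, hl]
  have h2 : x ∈ V0 R := by
    obtain ⟨c, -, hc⟩ := dbl_lim R l (𝟙 _) (by rw [Category.id_comp, hl])
    have : (V0 R).ι (c x) = x := by rw [← Scheme.Hom.comp_apply, hc]; rfl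
    rw [← this]
    exact (c x).2
  rcases h2 with h2 | h2
  · exact h2 (show oA R (aX R) ∈ q.asIdeal by rw [oA_aX]; exact Ideal.zero_mem _)
  · exact h2 (show oA R (bX R) ∈ q.asIdeal by rw [oA_bX]; exact Ideal.zero_mem _)

/-- The projection to the base. -/
def dπ : Dbl R ⟶ Spec (.of R) :=
  pushout.desc (Spec.map (CommRingCat.ofHom (cA R))) (Spec.map (CommRingCat.ofHom (cA R))) rfl

@[reassoc (attr := simp)] lemma dl_dπ : dl R ≫ dπ R = Spec.map (CommRingCat.ofHom (cA R)) := pushout.inl_desc _ _ _

@[reassoc (attr := simp)] lemma dr_dπ : dr R ≫ dπ R = Spec.map (CommRingCat.ofHom (cA R)) := pushout.inr_desc _ _ _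

/-- The punctured line. -/
abbrev Pt : Scheme.{u} := Spec (.of (Localization.Away (X : Polynomial R)))

/-- The inclusion of the punctured line. -/
abbrev jP : Pt R ⟶ Spec (.of (Polynomial R)) :=
  Spec.map (CommRingCat.ofHom (algebraMap (Polynomial R) (Localization.Away (X : Polynomial R))))

lemma jP_injective : Function.Injective (jP R).appTop := by
  have h : Function.Injective (algebraMap (Polynomial R) (Localization.Away (X : Polynomial R))) :=
    IsLocalization.injective _ (Submonoid.powers_le.2 Polynomial.monic_X.mem_nonZeroDivisors)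
  have e := Scheme.ΓSpecIso_naturality
    (CommRingCat.ofHom (algebraMap (Polynomial R) (Localization.Away (X : Polynomial R))))
  intro x y hxy
  apply (ConcreteCategory.bijective_of_isIso
    (Scheme.ΓSpecIso (CommRingCat.of (Polynomial R))).hom).1
  apply h
  have hx := congrArg (fun f => f.hom x) e
  have hy := congrArg (fun f => f.hom y) e
  simp only [CommRingCat.hom_comp, RingHom.comp_apply, CommRingCat.hom_ofHom] at hx hy
  exact hx.symm.trans ((congrArg _ hxy).trans hy)

/-- A coordinate line. -/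
abbrev lineMap (f : Ax R →+* Polynomial R) : Spec (.of (Polynomial R)) ⟶ X0 R :=
  Spec.map (CommRingCat.ofHom f)

lemma line_mem (f : Ax R →+* Polynomial R) {a : Ax R} (hf : f a = X) (y : Pt R) :
    (jP R ≫ lineMap R f) y ∈ (PrimeSpectrum.basicOpen a : TopologicalSpace.Opens (PrimeSpectrum (Ax R))) := by
  intro h
  change algebraMap _ (Localization.Away (X : Polynomial R)) (f a) ∈ y.asIdeal at h
  rw [hf] at h
  exact y.isPrime.ne_top (Ideal.eq_top_of_isUnit_mem _ h
    (IsLocalization.Away.algebraMap_isUnit (X : Polynomial R)))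

end IsoNatClean
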