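import Groth.Agent.IsoNatClean.Ops
import Groth.Agent.IsoNatClean.Glue
import Groth.Agent.IsoNatClean.Double
import Groth.Agent.IsoNatUnr.Glue
import Groth.Agent.IsoNatLib.Cls

/-!
# Separated classes force trivial automorphisms
-/

set_option autoImplicit false
set_option backward.isDefEq.respectTransparency false
set_option backward.isDefEq.respectTransparency.types false

universe u

open CategoryTheory CategoryTheory.Limits AlgebraicGeometry AlgSp FibCat FibLib AlgStLib IsoNat IsoNatLib IsoNatUnr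
open CategoryTheory.Functor (Fiber IsStronglyCartesian)
open Polynomial (X C)

noncomputable section

namespace IsoNatClean

variable {S : Scheme.{u}} {𝒳 : AlgSt.Cat S} [IsFibGrpd 𝒳.p]

omit [IsFibGrpd 𝒳.p] in
lemma acls_congr [IsFibGrpd 𝒳.p] {V : Over S} (Y : overCat V ⥤ᵇ 𝒳) {H : Sp S} {aH : H ⟶ (yon S).obj V}
    (C : IsoNatLib.Classifier (inertiaToBase (toSelf 𝒳)) (yV Y) aH) {o : Over V} {a b : Y.obj o ⟶ Y.obj o}
    (ha : 𝒳.p.IsHomLift (𝟙 o.left) a) (hb : 𝒳.p.IsHomLift (𝟙 o.left) b) (e : a = b) :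
    acls Y C o a ha = acls Y C o b hb := by subst e; rfl

/-- Over an affine base, separated classes force a vertical automorphism to be trivial. -/
theorem end_eq_id_affine (hst : Stk.IsStack (AlgSp.J S) 𝒳)
    (hI : AlgSt.RepByAlgSpWith AlgSp.IsSeparatedMor (inertiaToBase (toSelf 𝒳))) (hsep : SepCls 𝒳)
    (R : Type u) [CommRing R] [Nontrivial R] (str : Spec (.of R) ⟶ S)
    (Y : overCat (Over.mk str) ⥤ᵇ 𝒳)
    (k : Y.obj (Over.mk (𝟙 (Over.mk str))) ⟶ Y.obj (Over.mk (𝟙 (Over.mk str))))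
    (hk : 𝒳.p.IsHomLift (𝟙 (Over.mk str)) k) : k = 𝟙 _ := by
  haveI : IsFibGrpd (inertia (toSelf 𝒳)).p :=
    FibLib.isFibGrpd_inertia (FibLib.preservesStronglyCartesian_of_isFibGrpd _)
  obtain ⟨H, aH, -, haH, -, ⟨Cl⟩⟩ := exists_classifier hI (yV Y)
  let T : Over S := Over.mk str
  let o1 : Over T := Over.mk (𝟙 T)
  -- the schemes
  let P : Over S := Over.mk (Spec.map (CommRingCat.ofHom (cA R)) ≫ str)
  let Xd : Over S := Over.mk (dπ R ≫ str)
  let w : Xd ⟶ T := Over.homMk (dπ R) rfl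
  let ι₁ : P ⟶ Xd := Over.homMk (dl R) (dl_dπ_assoc R str)
  let ι₂ : P ⟶ Xd := Over.homMk (dr R) (dr_dπ_assoc R str)
  let P₁₂ : Over S := Over.mk ((V0 R).ι ≫ P.hom)
  let n : P₁₂ ⟶ P := Over.homMk (V0 R).ι rfl
  have hcomm : n ≫ ι₁ = n ≫ ι₂ := Over.OverMorphism.ext (dbl_cond R)
  haveI : IsOpenImmersion (n ≫ ι₁).left := inferInstanceAs (IsOpenImmersion ((V0 R).ι ≫ dl R))
  haveI : Mono (n ≫ ι₁) := (Over.forget S).mono_of_mono_map (inferInstanceAs (Mono (n ≫ ι₁).left))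
  let o12 : Over T := Over.mk (n ≫ ι₁ ≫ w)
  -- the two punctured lines
  let PA : Over S := Over.mk ((Da R).ι ≫ P.hom)
  let PB : Over S := Over.mk ((Db R).ι ≫ P.hom)
  let ca : PA ⟶ P₁₂ := Over.homMk ((X0 R).homOfLE le_sup_left) (Scheme.homOfLE_ι_assoc _ _ _)
  let cb : PB ⟶ P₁₂ := Over.homMk ((X0 R).homOfLE le_sup_right) (Scheme.homOfLE_ι_assoc _ _ _)
  let Pc : ULift.{u} Bool → Over S := fun i => match i with
    | ⟨true⟩ => PA
    | ⟨false⟩ => PB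
  let cc : ∀ i, Pc i ⟶ P₁₂ := fun i => match i with
    | ⟨true⟩ => ca
    | ⟨false⟩ => cb
  let lc : ∀ i, (yon S).obj (Pc i) ⟶ H := fun i => match i with
    | ⟨true⟩ => (yon S).map (ca ≫ o12.hom) ≫ acls Y Cl o1 k hk
    | ⟨false⟩ => (yon S).map (cb ≫ o12.hom) ≫ acls Y Cl o1 (𝟙 _) (lift_id Y o1)
  have hoi : ∀ i, IsOpenImmersion (cc i).left := fun i => match i with
    | ⟨true⟩ => inferInstanceAs (IsOpenImmersion ((X0 R).homOfLE (le_sup_left : Da R ≤ V0 R)))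
    | ⟨false⟩ => inferInstanceAs (IsOpenImmersion ((X0 R).homOfLE (le_sup_right : Db R ≤ V0 R)))
  have hcf : ∀ i, Flat (cc i).left := fun i => by haveI := hoi i; infer_instance
  have hcp : ∀ i, LocallyOfFinitePresentation (cc i).left := fun i => by haveI := hoi i; infer_instance
  have hcs : ∀ x : P₁₂.left, ∃ i, x ∈ Set.range (cc i).left := by
    rintro ⟨x, hx | hx⟩
    · exact ⟨⟨true⟩, ⟨x, hx⟩, Subtype.ext (Scheme.homOfLE_apply (X := X0 R) (le_sup_left : Da R ≤ V0 R) ⟨x, hx⟩)⟩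
    · exact ⟨⟨false⟩, ⟨x, hx⟩, Subtype.ext (Scheme.homOfLE_apply (X := X0 R) (le_sup_right : Db R ≤ V0 R) ⟨x, hx⟩)⟩
  have cross : ∀ (Z : Over S) (g : Z ⟶ PA) (g' : Z ⟶ PB), g ≫ ca = g' ≫ cb → IsEmpty Z.left := by
    intro Z g g' h
    refine ⟨fun z => ?_⟩
    have e := congrArg (fun f => (f.left z).1) h
    simp only [Over.comp_left, Scheme.Hom.comp_apply] at e
    change ((X0 R).homOfLE (le_sup_left : Da R ≤ V0 R) (g.left z)).1 =
      ((X0 R).homOfLE (le_sup_right : Db R ≤ V0 R) (g'.left z)).1 at e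
    simp only [Scheme.homOfLE_apply] at e
    exact not_mem_Da_Db R _ (g.left z).2 (e.symm ▸ (g'.left z).2)
  obtain ⟨t, ht⟩ := AlgSpLib.exists_amalgamation cc hcf hcp hcs lc (fun i i' Z g g' h => by
    match i, i' with
    | ⟨true⟩, ⟨true⟩ =>
      haveI := hoi ⟨true⟩
      haveI : Mono ca := (Over.forget S).mono_of_mono_map (inferInstanceAs (Mono (cc ⟨true⟩).left))
      exact congrArg (fun e => (yon S).map e ≫ lc ⟨true⟩) ((cancel_mono ca).mp h)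
    | ⟨false⟩, ⟨false⟩ =>
      haveI := hoi ⟨false⟩
      haveI : Mono cb := (Over.forget S).mono_of_mono_map (inferInstanceAs (Mono (cc ⟨false⟩).left))
      exact congrArg (fun e => (yon S).map e ≫ lc ⟨false⟩) ((cancel_mono cb).mp h)
    | ⟨true⟩, ⟨false⟩ => exact sec_ext_of_empty (cross Z g g' h) _ _
    | ⟨false⟩, ⟨true⟩ => exact sec_ext_of_empty (cross Z g' g h.symm) _ _)
  have htA : (yon S).map ca ≫ t = (yon S).map (ca ≫ o12.hom) ≫ acls Y Cl o1 k hk := ht ⟨true⟩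
  have htB : (yon S).map cb ≫ t = (yon S).map (cb ≫ o12.hom) ≫ acls Y Cl o1 (𝟙 _) (lift_id Y o1) := ht ⟨false⟩
  obtain ⟨a, ha, hat⟩ := exists_of_acls Y Cl o12 t (by
    refine AlgSpLib.hom_ext_of_cover cc hcf hcp hcs fun i => ?_
    match i with
    | ⟨true⟩ =>
      change (yon S).map ca ≫ t ≫ aH = (yon S).map ca ≫ (yon S).map o12.hom
      rw [reassoc_of% htA, acls_comp Y Cl hk, ← Functor.map_comp, ← Functor.map_comp]
      exact congrArg _ (Category.comp_id _)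
    | ⟨false⟩ =>
      change (yon S).map cb ≫ t ≫ aH = (yon S).map cb ≫ (yon S).map o12.hom
      rw [reassoc_of% htB, acls_comp Y Cl (lift_id Y o1), ← Functor.map_comp, ← Functor.map_comp]
      exact congrArg _ (Category.comp_id _))
  have onPiece : ∀ {o : Over T} (c : o ⟶ o12) {Pi : Over S} (ci : Pi ⟶ P₁₂) (d : o.left ⟶ Pi),
      d ≫ ci = c.left → ∀ (g : Y.obj o1 ⟶ Y.obj o1) (hg : 𝒳.p.IsHomLift (𝟙 o1.left) g),
      (yon S).map ci ≫ t = (yon S).map (ci ≫ o12.hom) ≫ acls Y Cl o1 g hg →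
      pbv Y c a ha = pbv Y (toId o) g hg := by
    intro o c Pi ci d hd g hg htg
    refine acls_inj Y Cl (pbv_lift Y c a ha) (pbv_lift Y (toId o) g hg) ?_
    rw [acls_pbv, acls_pbv, hat, ← hd, Functor.map_comp, Category.assoc, htg, ← Functor.map_comp_assoc]
    refine congrArg (fun e => (yon S).map e ≫ acls Y Cl o1 g hg) ?_
    rw [← Category.assoc, hd]
    exact Over.w c
  -- the twist
  let D : TwistData Y :=
    { X := Xd, w := w, X₁ := P, X₂ := P, X₁₂ := P₁₂, ι₁ := ι₁, ι₂ := ι₂, n₁ := n, n₂ := n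
      comm := hcomm
      lim := fun Z g g' h => by
        obtain ⟨c, hc₁, hc₂⟩ := dbl_lim R g.left g'.left (congrArg Over.Hom.left h)
        exact ⟨Over.homMk c (by
          change c ≫ (V0 R).ι ≫ P.hom = Z.hom
          rw [reassoc_of% hc₁]
          exact Over.w g), Over.OverMorphism.ext hc₁, Over.OverMorphism.ext hc₂⟩
      ne := fun ⟨l, hl⟩ => dbl_ne R ⟨l.left, congrArg Over.Hom.left hl⟩
      a := a
      ha := ha }
  let bI : ULift.{u} Bool → (P ⟶ Xd) := fun i => match i with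
    | ⟨true⟩ => ι₁
    | ⟨false⟩ => ι₂
  have hbo : ∀ i, IsOpenImmersion (bI i).left := fun i => match i with
    | ⟨true⟩ => inferInstanceAs (IsOpenImmersion (dl R))
    | ⟨false⟩ => inferInstanceAs (IsOpenImmersion (dr R))
  have hR : D.R ∈ AlgSp.J S D.X := by
    refine GrothendieckTopology.superset_covering _ ?_ (AlgSpLib.ofArrows_mem_J bI
      (fun i => by haveI := hbo i; infer_instance) (fun i => by haveI := hbo i; infer_instance)
      (fun x => (dbl_surj R x).elim (fun h => ⟨⟨true⟩, h⟩) fun h => ⟨⟨false⟩, h⟩))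
    rintro Z g ⟨W', e, f', hf', rfl⟩
    obtain ⟨i⟩ := hf'
    match i with
    | ⟨true⟩ => exact (D.mem_R _).mpr (Or.inl ⟨e, rfl⟩)
    | ⟨false⟩ => exact (D.mem_R _).mpr (Or.inr ⟨e, rfl⟩)
  obtain ⟨z, k₁, k₂, -, hk₁, hk₂, -, hk12, -, -⟩ := D.exists_twist hst hR PB (cb ≫ n ≫ ι₁) (by
    intro o c d h
    change c.left ≫ n ≫ ι₁ = d ≫ cb ≫ n ≫ ι₁ at h
    rw [← Category.assoc d] at h
    have e := onPiece c cb d ((cancel_mono (n ≫ ι₁)).1 h).symm (𝟙 _) (lift_id Y o1) htB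
    rw [pbv_one] at e
    have hf := pbv_fac Y c a ha
    rw [e, Category.id_comp] at hf
    exact hf.symm)
  -- the covering by two copies
  let Q : Over S := Over.mk (coprod.desc P.hom P.hom)
  let π : Q ⟶ Xd := Over.homMk (coprod.desc (dl R) (dr R)) (by
    change coprod.desc (dl R) (dr R) ≫ dπ R ≫ str = coprod.desc P.hom P.hom
    apply coprod.hom_ext <;> simp [P])
  let cq : ULift.{u} Bool → (P ⟶ Q) := fun i => match i with
    | ⟨true⟩ => Over.homMk coprod.inl (coprod.inl_desc _ _)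
    | ⟨false⟩ => Over.homMk coprod.inr (coprod.inr_desc _ _)
  have hcq : ∀ i, cq i ≫ π = bI i := fun i => match i with
    | ⟨true⟩ => Over.OverMorphism.ext (coprod.inl_desc _ _)
    | ⟨false⟩ => Over.OverMorphism.ext (coprod.inr_desc _ _)
  have hqo : ∀ i, IsOpenImmersion (cq i).left := fun i => match i with
    | ⟨true⟩ => inferInstanceAs (IsOpenImmersion (coprod.inl : X0 R ⟶ X0 R ⨿ X0 R))
    | ⟨false⟩ => inferInstanceAs (IsOpenImmersion (coprod.inr : X0 R ⟶ X0 R ⨿ X0 R))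
  have hqs : ∀ x : Q.left, ∃ i, x ∈ Set.range (cq i).left := fun x =>
    ((isCompl_range_inl_inr (X0 R) (X0 R)).sup_eq_top.ge (Set.mem_univ x)).elim (fun h => ⟨⟨true⟩, h⟩)
      fun h => ⟨⟨false⟩, h⟩
  haveI : Flat π.left := by
    change Flat (coprod.desc (dl R) (dr R))
    refine (IsZariskiLocalAtSource.iff_of_openCover (P := @Flat) (coprodOpenCover.{u, u} (X0 R) (X0 R))).2 fun i => ?_
    rcases i with i | i
    · change Flat (coprod.inl ≫ coprod.desc (dl R) (dr R))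
      rw [coprod.inl_desc]; infer_instance
    · change Flat (coprod.inr ≫ coprod.desc (dl R) (dr R))
      rw [coprod.inr_desc]; infer_instance
  haveI : LocallyOfFinitePresentation π.left := by
    change LocallyOfFinitePresentation (coprod.desc (dl R) (dr R))
    refine (IsZariskiLocalAtSource.iff_of_openCover (P := @LocallyOfFinitePresentation)
      (coprodOpenCover.{u, u} (X0 R) (X0 R))).2 fun i => ?_
    rcases i with i | i
    · change LocallyOfFinitePresentation (coprod.inl ≫ coprod.desc (dl R) (dr R))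
      rw [coprod.inl_desc]; infer_instance
    · change LocallyOfFinitePresentation (coprod.inr ≫ coprod.desc (dl R) (dr R))
      rw [coprod.inr_desc]; infer_instance
  haveI : Surjective π.left := ⟨fun x => by
    rcases dbl_surj R x with ⟨y, hy⟩ | ⟨y, hy⟩
    · exact ⟨(cq ⟨true⟩).left y, (Scheme.Hom.comp_apply _ _ _).symm.trans ((congrArg (fun g => g.left y) (hcq ⟨true⟩)).trans hy)⟩
    · exact ⟨(cq ⟨false⟩).left y, (Scheme.Hom.comp_apply _ _ _).symm.trans ((congrArg (fun g => g.left y) (hcq ⟨false⟩)).trans hy)⟩⟩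
  let ox : Over T := Over.mk w
  let oq : Over T := Over.mk (π ≫ w)
  let x₁' : 𝒳.p.Fiber Q := Fiber.mk (p := 𝒳.p) (a := Y.obj oq) (Y.w_obj oq)
  let x₁ : 𝒳.p.Fiber Xd := Fiber.mk (p := 𝒳.p) (a := Y.obj ox) (Y.w_obj ox)
  let mq : oq ⟶ ox := Over.homMk π rfl
  obtain ⟨x₂', a₂, ha₂⟩ := exists_pullback π z
  let oI : ULift.{u} Bool → Over T := fun i => Over.mk (bI i ≫ w)
  let mI : ∀ i, oI i ⟶ oq := fun i => Over.homMk (cq i)
    (by change cq i ≫ π ≫ w = bI i ≫ w; rw [reassoc_of% (hcq i)])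
  let pI : ∀ i, Y.obj (oI i) ⟶ x₁'.1 := fun i => Y.map (mI i)
  have hpI : ∀ i, 𝒳.p.IsHomLift (cq i) (pI i) := fun i => lift_map Y (mI i)
  let kI : ∀ i, Y.obj (oI i) ⟶ z.1 := fun i => match i with
    | ⟨true⟩ => k₁
    | ⟨false⟩ => k₂
  have hkI : ∀ i, 𝒳.p.IsHomLift (bI i) (kI i) := fun i => match i with
    | ⟨true⟩ => hk₁
    | ⟨false⟩ => hk₂
  let fI : ∀ i, Y.obj (oI i) ⟶ x₂'.1 := fun i =>
    haveI := ha₂
    haveI := hkI i
    IsStronglyCartesian.map 𝒳.p π a₂ (g := cq i) (f' := bI i) (hcq i).symm (kI i)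
  have hfI : ∀ i, 𝒳.p.IsHomLift (cq i) (fI i) := fun i => by
    haveI := ha₂
    haveI := hkI i
    exact IsStronglyCartesian.map_isHomLift 𝒳.p π a₂ (g := cq i) (f' := bI i) (hcq i).symm (kI i)
  obtain ⟨mQ, hmQ, -⟩ := exists_hom_of_pieces hst x₁' x₂' cq
    (fun i => by haveI := hqo i; infer_instance) (fun i => by haveI := hqo i; infer_instance) hqs pI hpI fI hfI
    (fun b i j u v e => by
      by_cases hij : i = j
      · subst hij
        haveI := hpI i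
        haveI := hqo i
        haveI : Mono (cq i) := (Over.forget S).mono_of_mono_map (inferInstanceAs (Mono (cq i).left))
        haveI : Mono (𝒳.p.map (pI i)) := by
          rw [IsHomLift.fac' 𝒳.p (cq i) (pI i)]
          infer_instance
        rw [eq_of_comp_eq (pI i) e]
      have hmap : ∀ l, 𝒳.p.map (fI l) = 𝒳.p.map (pI l) ≫ eqToHom (x₁'.2.trans x₂'.2.symm) := fun l => by
        haveI := hpI l
        haveI := hfI l
        rw [IsHomLift.fac' 𝒳.p (cq l) (fI l), IsHomLift.fac' 𝒳.p (cq l) (pI l)]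
        simp
      have e' := congrArg 𝒳.p.map e
      simp only [Functor.map_comp] at e'
      refine hom_eq_of_empty Y Cl u _ _ (by
        rw [Functor.map_comp, Functor.map_comp, hmap, hmap, ← Category.assoc, e', Category.assoc]) ⟨fun x => ?_⟩
      let gu : 𝒳.p.obj b ⟶ P := 𝒳.p.map u ≫ eqToHom (Y.w_obj (oI i))
      let gv : 𝒳.p.obj b ⟶ P := 𝒳.p.map v ≫ eqToHom (Y.w_obj (oI j))
      have hg : gu ≫ cq i = gv ≫ cq j := by
        haveI := hpI i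
        haveI := hpI j
        have e'' := congrArg (· ≫ eqToHom x₁'.2) e'
        rw [IsHomLift.fac' 𝒳.p (cq i) (pI i), IsHomLift.fac' 𝒳.p (cq j) (pI j)] at e''
        simpa [gu, gv] using e''
      have hx := congrArg (fun g => g.left x) hg
      simp only [Over.comp_left, Scheme.Hom.comp_apply] at hx
      have hd := (isCompl_range_inl_inr (X0 R) (X0 R)).disjoint
      rcases i with ⟨_ | _⟩ <;> rcases j with ⟨_ | _⟩
      · exact hij rfl
      · exact Set.disjoint_left.1 hd ⟨gv.left x, rfl⟩ ⟨gu.left x, hx⟩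
      · exact Set.disjoint_left.1 hd ⟨gu.left x, rfl⟩ ⟨gv.left x, hx.symm⟩
      · exact hij rfl)
  haveI := hmQ
  haveI : IsIso mQ := isIso_of_isHomLift 𝒳.p (𝟙 Q) mQ
  obtain ⟨eiso⟩ := hsep Xd Q π x₁ z x₁' x₂' (Y.map mq) a₂ (lift_map Y mq) ha₂
    ⟨fiberIso 𝒳.p (asIso mQ) hmQ⟩
  let m : Y.obj ox ⟶ z.1 := eiso.hom.1
  haveI hm : 𝒳.p.IsHomLift (𝟙 Xd) m := eiso.hom.2
  -- the coboundaries
  let toW : ∀ i, oI i ⟶ ox := fun i => Over.homMk (bI i) rfl
  have hbeta : ∀ i, ∃ (β : Y.obj (oI i) ⟶ Y.obj (oI i)) (_ : 𝒳.p.IsHomLift (𝟙 (oI i).left) β),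
      β ≫ kI i = Y.map (toW i) ≫ m := by
    intro i
    haveI := hkI i
    haveI : 𝒳.p.IsHomLift (bI i) (Y.map (toW i)) := lift_map Y (toW i)
    haveI : 𝒳.p.IsHomLift (bI i) (Y.map (toW i) ≫ m) :=
      IsHomLift.comp_lift_id_right 𝒳.p (bI i) (Y.map (toW i)) m
    exact ⟨IsStronglyCartesian.map 𝒳.p (bI i) (kI i) (g := 𝟙 P) (f' := bI i) (Category.id_comp _).symm
      (Y.map (toW i) ≫ m), IsStronglyCartesian.map_isHomLift 𝒳.p (bI i) (kI i) (g := 𝟙 P) (f' := bI i)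
      (Category.id_comp _).symm (Y.map (toW i) ≫ m), IsStronglyCartesian.fac 𝒳.p (bI i) (kI i) (g := 𝟙 P)
      (f' := bI i) (Category.id_comp _).symm (Y.map (toW i) ≫ m)⟩
  obtain ⟨β₁, hβ₁, fβ₁⟩ := hbeta ⟨true⟩
  obtain ⟨β₂, hβ₂, fβ₂⟩ := hbeta ⟨false⟩
  let u₁ : o12 ⟶ oI ⟨true⟩ := Over.homMk n rfl
  let u₂ : o12 ⟶ oI ⟨false⟩ := Over.homMk n (by
    change n ≫ ι₂ ≫ w = n ≫ ι₁ ≫ w
    rw [← Category.assoc, ← hcomm, Category.assoc])
  let c₁ := pbv Y u₁ β₁ hβ₁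
  let c₂ := pbv Y u₂ β₂ hβ₂
  have hc₁ : 𝒳.p.IsHomLift (𝟙 o12.left) c₁ := pbv_lift Y u₁ β₁ hβ₁
  have hc₂ : 𝒳.p.IsHomLift (𝟙 o12.left) c₂ := pbv_lift Y u₂ β₂ hβ₂
  have hcc : c₁ ≫ a = c₂ := by
    haveI : 𝒳.p.IsHomLift n (Y.map u₂) := lift_map Y u₂
    haveI : 𝒳.p.IsHomLift ι₂ (kI ⟨false⟩) := hk₂
    haveI hL : 𝒳.p.IsHomLift (n ≫ ι₂) (Y.map u₂ ≫ kI ⟨false⟩) := inferInstance
    haveI := comp_vert Y hc₁ ha
    haveI := hc₂
    apply IsStronglyCartesian.ext 𝒳.p (n ≫ ι₂) (Y.map u₂ ≫ kI ⟨false⟩) (𝟙 o12.left)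
    have e₁ : c₁ ≫ Y.map u₁ ≫ kI ⟨true⟩ = Y.map (u₁ ≫ toW ⟨true⟩) ≫ m := by
      rw [← Category.assoc, pbv_fac, Category.assoc, fβ₁, ← Category.assoc, ← Y.toFunctor.map_comp]
    have e₂ : c₂ ≫ Y.map u₂ ≫ kI ⟨false⟩ = Y.map (u₂ ≫ toW ⟨false⟩) ≫ m := by
      rw [← Category.assoc, pbv_fac, Category.assoc, fβ₂, ← Category.assoc, ← Y.toFunctor.map_comp]
    have e₃ : Y.map u₁ ≫ kI ⟨true⟩ = a ≫ Y.map u₂ ≫ kI ⟨false⟩ := hk12 u₁ u₂ rfl rfl
    rw [Category.assoc, ← e₃, e₁, e₂]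
    exact congrArg (fun g => Y.map g ≫ m) (Over.OverMorphism.ext hcomm)
  -- the value at the origin
  have hsec : ∀ i, (Over.homMk (Spec.map (CommRingCat.ofHom (oA R)))
      (by change Spec.map _ ≫ Spec.map _ ≫ str = str
          rw [← Spec.map_comp_assoc, ← CommRingCat.ofHom_comp, oA_cA]; simp) : T ⟶ P) ≫ bI i ≫ w = 𝟙 T := by
    intro i
    refine Over.OverMorphism.ext ?_
    rcases i with ⟨_ | _⟩
    · change Spec.map _ ≫ dr R ≫ dπ R = 𝟙 _
      rw [dr_dπ, ← Spec.map_comp, ← CommRingCat.ofHom_comp, oA_cA]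
      exact Spec.map_id _
    · change Spec.map _ ≫ dl R ≫ dπ R = 𝟙 _
      rw [dl_dπ, ← Spec.map_comp, ← CommRingCat.ofHom_comp, oA_cA]
      exact Spec.map_id _
  let s : ∀ i, o1 ⟶ oI i := fun i => Over.homMk _ (hsec i)
  let ρ₁ := pbv Y (s ⟨true⟩) β₁ hβ₁
  let ρ₂ := pbv Y (s ⟨false⟩) β₂ hβ₂
  have key : ∀ (f : Ax R →+* Polynomial R) (hfC : f.comp (cA R) = C) (hfo : (ev R).comp f = oA R)
      (Pi : Over S) (ci : Pi ⟶ P₁₂) (g : Y.obj o1 ⟶ Y.obj o1) (hg : 𝒳.p.IsHomLift (𝟙 o1.left) g),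
      (yon S).map ci ≫ t = (yon S).map (ci ≫ o12.hom) ≫ acls Y Cl o1 g hg →
      ∀ (dP : Pt R ⟶ Pi.left), dP ≫ ci.left ≫ (V0 R).ι = jP R ≫ lineMap R f → ρ₁ ≫ g = ρ₂ := by
    intro f hfC hfo Pi ci g hg htg dP hdP
    let OL : Over S := Over.mk (Spec.map (CommRingCat.ofHom (C : R →+* Polynomial R)) ≫ str)
    let wl : OL ⟶ T := Over.homMk (Spec.map (CommRingCat.ofHom (C : R →+* Polynomial R))) rfl
    let ol : Over T := Over.mk wl
    let fl : OL ⟶ P := Over.homMk (lineMap R f) (by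
      change Spec.map _ ≫ Spec.map _ ≫ str = Spec.map _ ≫ str
      rw [← Spec.map_comp_assoc, ← CommRingCat.ofHom_comp, hfC])
    have hl : ∀ i, fl ≫ bI i ≫ w = wl := fun i => by
      refine Over.OverMorphism.ext ?_
      rcases i with ⟨_ | _⟩
      · change Spec.map _ ≫ dr R ≫ dπ R = Spec.map _
        rw [dr_dπ, ← Spec.map_comp, ← CommRingCat.ofHom_comp, hfC]
      · change Spec.map _ ≫ dl R ≫ dπ R = Spec.map _
        rw [dl_dπ, ← Spec.map_comp, ← CommRingCat.ofHom_comp, hfC]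
    let l : ∀ i, ol ⟶ oI i := fun i => Over.homMk fl (hl i)
    let OP : Over S := Over.mk (jP R ≫ OL.hom)
    let jl : OP ⟶ OL := Over.homMk (jP R) rfl
    let op : Over T := Over.mk (jl ≫ wl)
    let mj : op ⟶ ol := Over.homMk jl rfl
    let dI : OP ⟶ Pi := Over.homMk dP (by
      change dP ≫ Pi.hom = jP R ≫ OL.hom
      rw [← Over.w ci]
      change dP ≫ ci.left ≫ (V0 R).ι ≫ P.hom = _
      rw [reassoc_of% hdP]
      exact congrArg (jP R ≫ ·) (Over.w fl))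
    have hdn : (dI ≫ ci) ≫ n = jl ≫ fl :=
      Over.OverMorphism.ext ((Category.assoc _ _ _).trans hdP)
    let d : op ⟶ o12 := Over.homMk (dI ≫ ci) (by
      change (dI ≫ ci) ≫ n ≫ ι₁ ≫ w = jl ≫ wl
      rw [← Category.assoc (dI ≫ ci) n, hdn, Category.assoc, ← hl ⟨true⟩])
    have d₁ : d ≫ u₁ = mj ≫ l ⟨true⟩ := Over.OverMorphism.ext hdn
    have d₂ : d ≫ u₂ = mj ≫ l ⟨false⟩ := Over.OverMorphism.ext hdn
    let δ₁ := pbv Y (l ⟨true⟩) β₁ hβ₁
    let δ₂ := pbv Y (l ⟨false⟩) β₂ hβ₂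
    let gl := pbv Y (toId ol) g hg
    have hδ₁ : 𝒳.p.IsHomLift (𝟙 ol.left) δ₁ := pbv_lift _ _ _ _
    have hδ₂ : 𝒳.p.IsHomLift (𝟙 ol.left) δ₂ := pbv_lift _ _ _ _
    have hgl : 𝒳.p.IsHomLift (𝟙 ol.left) gl := pbv_lift _ _ _ _
    have hP : pbv Y mj (δ₁ ≫ gl) (comp_vert Y hδ₁ hgl) = pbv Y mj δ₂ hδ₂ := by
      rw [pbv_mul Y mj δ₁ gl hδ₁ hgl, pbv_pbv Y mj (l ⟨true⟩) β₁ hβ₁, pbv_pbv Y mj (toId ol) g hg,
        pbv_pbv Y mj (l ⟨false⟩) β₂ hβ₂, pbv_congr Y (comp_toId mj) g hg, pbv_congr Y d₁.symm β₁ hβ₁,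
        pbv_congr Y d₂.symm β₂ hβ₂, ← onPiece d ci dI rfl g hg htg, ← pbv_pbv Y d u₁ β₁ hβ₁,
        ← pbv_pbv Y d u₂ β₂ hβ₂, ← pbv_mul Y d c₁ a hc₁ ha]
      exact pbv_congr' Y d hcc _ _
    have hLine : δ₁ ≫ gl = δ₂ := by
      refine acls_inj Y Cl (comp_vert Y hδ₁ hgl) hδ₂ ?_
      haveI : IsAffine OL.left := inferInstanceAs (IsAffine (Spec (.of (Polynomial R))))
      refine eq_of_dominant haH jl (jP_injective R) ?_ ?_
      · exact ((acls_map Y Cl mj (comp_vert Y hδ₁ hgl) (pbv_lift Y mj _ (comp_vert Y hδ₁ hgl))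
          (pbv_fac Y mj _ _)).symm.trans (acls_congr Y Cl _ _ hP)).trans
          (acls_map Y Cl mj hδ₂ (pbv_lift Y mj _ hδ₂) (pbv_fac Y mj _ _))
      · rw [acls_comp, acls_comp]
    let e0 : o1 ⟶ ol := Over.homMk (Over.homMk (Spec.map (CommRingCat.ofHom (ev R))) (by
      change Spec.map _ ≫ Spec.map _ ≫ str = str
      rw [← Spec.map_comp_assoc, ← CommRingCat.ofHom_comp,
        show (ev R).comp C = RingHom.id R from RingHom.ext fun r => by simp]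
      simp) : T ⟶ OL) (Over.OverMorphism.ext (by
      change Spec.map _ ≫ Spec.map _ = 𝟙 _
      rw [← Spec.map_comp, ← CommRingCat.ofHom_comp,
        show (ev R).comp C = RingHom.id R from RingHom.ext fun r => by simp]
      exact Spec.map_id _))
    have el : ∀ i, e0 ≫ l i = s i := fun i => Over.OverMorphism.ext (Over.OverMorphism.ext (by
      change Spec.map _ ≫ Spec.map _ = Spec.map _
      rw [← Spec.map_comp, ← CommRingCat.ofHom_comp, hfo]))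
    have e1 : e0 ≫ toId ol = 𝟙 o1 :=
      (comp_toId e0).trans (Over.OverMorphism.ext rfl)
    have := pbv_congr' Y e0 hLine (comp_vert Y hδ₁ hgl) hδ₂
    rw [pbv_mul Y e0 δ₁ gl hδ₁ hgl, pbv_pbv Y e0 (l ⟨true⟩) β₁ hβ₁, pbv_pbv Y e0 (toId ol) g hg,
      pbv_pbv Y e0 (l ⟨false⟩) β₂ hβ₂, pbv_congr Y (el ⟨true⟩) β₁ hβ₁, pbv_congr Y (el ⟨false⟩) β₂ hβ₂,
      pbv_congr Y e1 g hg, pbv_idmap] at this
    exact this
  have hA := key fibFst (RingHom.ext fun r => rfl) rfl PA ca k hk htA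
    (IsOpenImmersion.lift (Da R).ι (jP R ≫ lineMap R fibFst) (by
      rintro _ ⟨y, rfl⟩
      exact ⟨⟨_, line_mem R fibFst (a := aX R) rfl y⟩, rfl⟩)) (by
      refine Eq.trans (congrArg (_ ≫ ·) (Scheme.homOfLE_ι (X0 R) (le_sup_left : Da R ≤ V0 R))) ?_
      exact IsOpenImmersion.lift_fac _ _ _)
  have hB := key fibSnd (RingHom.ext fun r => rfl) fib_cond.symm PB cb (𝟙 _) (lift_id Y o1) htB
    (IsOpenImmersion.lift (Db R).ι (jP R ≫ lineMap R fibSnd) (by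
      rintro _ ⟨y, rfl⟩
      exact ⟨⟨_, line_mem R fibSnd (a := bX R) rfl y⟩, rfl⟩)) (by
      refine Eq.trans (congrArg (_ ≫ ·) (Scheme.homOfLE_ι (X0 R) (le_sup_right : Db R ≤ V0 R))) ?_
      exact IsOpenImmersion.lift_fac _ _ _)
  haveI : IsIso ρ₁ :=
    @isIso_of_isHomLift _ _ _ _ 𝒳.p _ _ _ (𝟙 o1.left) _ _ _ ρ₁ (pbv_lift Y (s ⟨true⟩) β₁ hβ₁)
  exact (cancel_epi ρ₁).1 (hA.trans hB.symm)

/-- Separated classes force all objects to be clean. -/
theorem clean_of_sepCls (hst : Stk.IsStack (AlgSp.J S) 𝒳)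
    (hI : AlgSt.RepByAlgSpWith AlgSp.IsSeparatedMor (inertiaToBase (toSelf 𝒳))) (hsep : SepCls 𝒳)
    (η : 𝒳.obj) : IsClean η := by
  intro x _ s hs
  haveI : IsFibGrpd (inertia (toSelf 𝒳)).p :=
    FibLib.isFibGrpd_inertia (FibLib.preservesStronglyCartesian_of_isFibGrpd _)
  let T : Over S := 𝒳.p.obj x
  let xf : 𝒳.p.Fiber T := Fiber.mk (p := 𝒳.p) (a := x) rfl
  let Y : overCat T ⥤ᵇ 𝒳 := ofPoint xf
  let o1 : Over T := Over.mk (𝟙 T)
  let θ : Y.obj o1 ⟶ x := CategoryTheory.Functor.IsPreFibered.pullbackMap xf.2 (𝟙 T)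
  haveI hθ : 𝒳.p.IsHomLift (𝟙 T) θ :=
    inferInstanceAs (𝒳.p.IsHomLift (𝟙 T) (CategoryTheory.Functor.IsPreFibered.pullbackMap xf.2 (𝟙 T)))
  haveI : IsIso θ := isIso_of_isHomLift 𝒳.p (𝟙 T) θ
  haveI : 𝒳.p.IsHomLift (𝟙 T) (inv θ) := @IsHomLift.lift_id_inv _ _ _ _ 𝒳.p _ _ _ (asIso θ) hθ
  haveI : 𝒳.p.IsHomLift (𝟙 T) s := IsHomLift.of_fac' 𝒳.p (𝟙 T) s rfl rfl (by simp [hs, T])
  haveI : 𝒳.p.IsHomLift (𝟙 T) (s ≫ inv θ) := IsHomLift.comp_lift_id_right 𝒳.p (𝟙 T) s (inv θ)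
  let k : Y.obj o1 ⟶ Y.obj o1 := θ ≫ s ≫ inv θ
  have hk : 𝒳.p.IsHomLift (𝟙 o1.left) k := IsHomLift.comp_lift_id_right 𝒳.p (𝟙 T) θ (s ≫ inv θ)
  suffices h : k = 𝟙 _ by
    have e : (θ ≫ s ≫ inv θ) ≫ θ = 𝟙 _ ≫ θ := congrArg (· ≫ θ) h
    rw [Category.assoc, Category.assoc, IsIso.inv_hom_id, Category.comp_id, Category.id_comp] at e
    exact (cancel_epi θ).1 (e.trans (Category.comp_id θ).symm)
  obtain ⟨H, aH, -, -, -, ⟨Cl⟩⟩ := exists_classifier hI (yV Y)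
  have aff : ∀ t : T.left, ∃ O : T.left.Opens, IsAffineOpen O ∧ t ∈ O := fun t => by
    obtain ⟨O, hO, ht, -⟩ := exists_isAffineOpen_mem_and_subset (U := (⊤ : T.left.Opens)) (x := t) trivial
    exact ⟨O, hO, ht⟩
  choose O hO hmem using aff
  let c : ∀ t, Over.mk ((hO t).fromSpec ≫ T.hom) ⟶ T := fun t => Over.homMk (hO t).fromSpec rfl
  haveI : ∀ t, IsOpenImmersion (c t).left := fun t => inferInstanceAs (IsOpenImmersion (hO t).fromSpec)
  refine acls_inj Y Cl hk (lift_id Y o1) (AlgSpLib.hom_ext_of_cover c (fun _ => inferInstance)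
    (fun _ => inferInstance) (fun t => ⟨t, ?_⟩) fun t => ?_)
  · rw [show Set.range (c t).left = (O t : Set T.left) from (hO t).range_fromSpec]
    exact hmem t
  haveI : Nonempty (O t) := ⟨⟨t, hmem t⟩⟩
  let Y' : overCat (Over.mk ((hO t).fromSpec ≫ T.hom)) ⥤ᵇ 𝒳 := BasedFunctor.comp (AlgSt.overMap (c t)) Y
  let o' : Over T := (AlgSt.overMap (c t)).obj (Over.mk (𝟙 _))
  have h1 : pbv Y (toId o') k hk = 𝟙 _ :=
    end_eq_id_affine hst hI hsep Γ(T.left, O t) ((hO t).fromSpec ≫ T.hom) Y' (pbv Y (toId o') k hk)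
      (pbv_lift Y (toId o') k hk)
  have e1 := acls_pbv Y Cl (toId o') hk
  have e2 := acls_pbv Y Cl (toId o') (lift_id Y o1)
  have ho : (toId o').left = c t := Category.id_comp _
  rw [ho] at e1 e2
  rw [← e1, ← e2]
  exact acls_congr Y Cl _ _ (h1.trans (pbv_one Y (toId o')).symm)

end IsoNatClean
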