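import Groth.Agent.IsoNatUnr.Elts
import Groth.Agent.AlgStLib.Inertia
import Groth.Agent.FibLib.Fp

/-!
# The classifying sheaf of the vertical endomorphisms of a value
-/

set_option autoImplicit false
set_option backward.isDefEq.respectTransparency false
set_option backward.isDefEq.respectTransparency.types false

universe u

open CategoryTheory CategoryTheory.Limits AlgebraicGeometry AlgSp FibCat FibLib AlgStLib IsoNat IsoNatLib IsoNatUnr
open CategoryTheory.Functor (Fiber IsStronglyCartesian)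

noncomputable section

namespace IsoNatClean

variable {S : Scheme.{u}} {𝒳 : AlgSt.Cat S}

lemma inertia_lift {T' T : Over S} {g : T' ⟶ T} {a b : (inertia (toSelf 𝒳)).obj} (φ : a ⟶ b)
    (h : 𝒳.p.IsHomLift g φ.hom) : (inertia (toSelf 𝒳)).p.IsHomLift g φ := by
  haveI := h
  exact IsHomLift.of_fac' (inertia (toSelf 𝒳)).p g φ (IsHomLift.domain_eq 𝒳.p g φ.hom)
    (IsHomLift.codomain_eq 𝒳.p g φ.hom) (IsHomLift.fac' 𝒳.p g φ.hom)

lemma lift_of_inertia {T' T : Over S} {g : T' ⟶ T} {a b : (inertia (toSelf 𝒳)).obj} (φ : a ⟶ b)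
    (h : (inertia (toSelf 𝒳)).p.IsHomLift g φ) : 𝒳.p.IsHomLift g φ.hom := by
  haveI := h
  exact IsHomLift.of_fac' 𝒳.p g φ.hom (IsHomLift.domain_eq (inertia (toSelf 𝒳)).p g φ)
    (IsHomLift.codomain_eq (inertia (toSelf 𝒳)).p g φ) (IsHomLift.fac' (inertia (toSelf 𝒳)).p g φ)

variable [IsFibGrpd 𝒳.p] {V : Over S} (Y : overCat V ⥤ᵇ 𝒳)

omit [IsFibGrpd 𝒳.p] in
lemma map_vert {o : Over V} {a : Y.obj o ⟶ Y.obj o} (ha : 𝒳.p.IsHomLift (𝟙 o.left) a) :
    𝒳.p.map a = 𝟙 (𝒳.p.obj (Y.obj o)) := by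
  haveI := ha
  simpa using IsHomLift.fac' 𝒳.p (𝟙 o.left) a

/-- The value at the identity. -/
abbrev yV : 𝒳.p.Fiber V := Fiber.mk (p := 𝒳.p) (a := Y.obj (Over.mk (𝟙 V))) (Y.w_obj _)

/-- The inertia object of a vertical endomorphism. -/
abbrev aObj (o : Over V) (a : Y.obj o ⟶ Y.obj o) (ha : 𝒳.p.IsHomLift (𝟙 o.left) a) :
    (inertia (toSelf 𝒳)).obj :=
  ⟨Y.obj o, @asIso _ _ _ _ a (@isIso_of_isHomLift _ _ _ _ 𝒳.p _ _ _ (𝟙 o.left) _ _ _ a ha), map_vert Y ha⟩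

/-- The element of a vertical endomorphism. -/
abbrev aE (o : Over V) (a : Y.obj o ⟶ Y.obj o) (ha : 𝒳.p.IsHomLift (𝟙 o.left) a) :
    Elt (inertiaToBase (toSelf 𝒳)) (yV Y) o.left where
  base := o.hom
  obj := Fiber.mk (p := (inertia (toSelf 𝒳)).p) (a := aObj Y o a ha) (Y.w_obj o)
  map := Y.map (toId o)
  lift := lift_map Y (toId o)

variable {H : Sp S} {aH : H ⟶ (yon S).obj V} (C : Classifier (inertiaToBase (toSelf 𝒳)) (yV Y) aH)

/-- The class of a vertical endomorphism. -/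
abbrev acls (o : Over V) (a : Y.obj o ⟶ Y.obj o) (ha : 𝒳.p.IsHomLift (𝟙 o.left) a) : (yon S).obj o.left ⟶ H :=
  C.cls (aE Y o a ha)

lemma acls_comp {o : Over V} {a : Y.obj o ⟶ Y.obj o} (ha : 𝒳.p.IsHomLift (𝟙 o.left) a) :
    acls Y C o a ha ≫ aH = (yon S).map o.hom := C.cls_comp _

lemma acls_map {o o' : Over V} (m : o' ⟶ o) {a : Y.obj o ⟶ Y.obj o} (ha : 𝒳.p.IsHomLift (𝟙 o.left) a)
    {a' : Y.obj o' ⟶ Y.obj o'} (ha' : 𝒳.p.IsHomLift (𝟙 o'.left) a') (e : a' ≫ Y.map m = Y.map m ≫ a) :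
    acls Y C o' a' ha' = (yon S).map m.left ≫ acls Y C o a ha :=
  C.cls_map ⟨⟨Y.map m, e⟩, inertia_lift _ (lift_map Y m), by
    change Y.map m ≫ Y.map (toId o) = Y.map (toId o')
    rw [← Y.toFunctor.map_comp]
    exact congrArg (fun k => Y.map k) (comp_toId m)⟩

lemma acls_pbv {o o' : Over V} (m : o' ⟶ o) {a : Y.obj o ⟶ Y.obj o} (ha : 𝒳.p.IsHomLift (𝟙 o.left) a) :
    acls Y C o' (pbv Y m a ha) (pbv_lift Y m a ha) = (yon S).map m.left ≫ acls Y C o a ha :=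
  acls_map Y C m ha _ (pbv_fac Y m a ha)

lemma acls_inj {o : Over V} {a b : Y.obj o ⟶ Y.obj o} (ha : 𝒳.p.IsHomLift (𝟙 o.left) a)
    (hb : 𝒳.p.IsHomLift (𝟙 o.left) b) (e : acls Y C o a ha = acls Y C o b hb) : a = b := by
  obtain ⟨k, hk, hk'⟩ := C.ehom_of_eq e
  have h1 : k.hom = 𝟙 (Y.obj o) :=
    ext_map Y (toId o) (lift_of_inertia k hk) (lift_id Y o) (hk'.trans (Category.id_comp _).symm)
  have hc : a ≫ k.hom = k.hom ≫ b := k.comm
  rw [h1] at hc
  exact ((Category.comp_id a).symm.trans hc).trans (Category.id_comp b)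

lemma exists_of_acls (o : Over V) (t : (yon S).obj o.left ⟶ H) (ht : t ≫ aH = (yon S).map o.hom) :
    ∃ (a : Y.obj o ⟶ Y.obj o) (ha : 𝒳.p.IsHomLift (𝟙 o.left) a), acls Y C o a ha = t := by
  obtain ⟨E, rfl⟩ := C.exists_elt t
  have hb : E.base = o.hom := (yon S).map_injective ((C.cls_comp E).symm.trans ht)
  haveI hn : 𝒳.p.IsHomLift o.hom E.map := hb ▸ E.lift
  haveI := lift_map Y (toId o)
  haveI : 𝒳.p.IsHomLift o.hom (Y.map (toId o)) := lift_map Y (toId o)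
  let w : (inertia (toSelf 𝒳)).obj := E.obj.1
  let n : w.pt ⟶ (yV Y).1 := E.map
  haveI : 𝒳.p.IsHomLift o.hom n := hn
  let θ : Y.obj o ⟶ w.pt := IsStronglyCartesian.map 𝒳.p o.hom n (g := 𝟙 o.left) (f' := o.hom)
    (Category.id_comp _).symm (Y.map (toId o))
  haveI hθ : 𝒳.p.IsHomLift (𝟙 o.left) θ := IsStronglyCartesian.map_isHomLift 𝒳.p o.hom n (g := 𝟙 o.left)
    (f' := o.hom) (Category.id_comp _).symm (Y.map (toId o))
  have hfac : θ ≫ n = Y.map (toId o) := IsStronglyCartesian.fac 𝒳.p o.hom n (g := 𝟙 o.left) (f' := o.hom)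
    (Category.id_comp _).symm (Y.map (toId o))
  haveI : IsIso θ := isIso_of_isHomLift 𝒳.p (𝟙 o.left) θ
  haveI : 𝒳.p.IsHomLift (𝟙 o.left) (inv θ) :=
    @IsHomLift.lift_id_inv _ _ _ _ 𝒳.p _ _ _ (asIso θ) hθ
  have hobj : 𝒳.p.obj w.pt = o.left := E.obj.2
  haveI haut : 𝒳.p.IsHomLift (𝟙 o.left) w.aut.hom :=
    IsHomLift.of_fac' 𝒳.p (𝟙 o.left) w.aut.hom hobj hobj (by
      rw [show 𝒳.p.map w.aut.hom = 𝟙 _ from w.map_aut]
      simp)
  haveI : 𝒳.p.IsHomLift (𝟙 o.left) (w.aut.hom ≫ inv θ) :=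
    IsHomLift.comp_lift_id_right 𝒳.p (𝟙 o.left) w.aut.hom (inv θ)
  let a := θ ≫ w.aut.hom ≫ inv θ
  have ha : 𝒳.p.IsHomLift (𝟙 o.left) a :=
    IsHomLift.comp_lift_id_right 𝒳.p (𝟙 o.left) θ (w.aut.hom ≫ inv θ)
  refine ⟨a, ha, ?_⟩
  have := C.cls_map (c := 𝟙 o.left) (E' := aE Y o a ha) (E := E) ⟨⟨θ, ?_⟩, inertia_lift _ hθ, hfac⟩
  · exact this.trans (by rw [CategoryTheory.Functor.map_id]; exact Category.id_comp _)
  · change (θ ≫ w.aut.hom ≫ inv θ) ≫ θ = θ ≫ w.aut.hom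
    simp

/-- Two sections of a separated morphism agree when they agree after a map not factoring through a proper
closed subscheme. -/
theorem eq_of_dominant {F : Sp S} {T : Over S} {G : Sp S} {f : F ⟶ G} (hf : AlgSp.IsSeparatedMor f)
    {W : Over S} (j : W ⟶ T) [IsAffine T.left] (hj : Function.Injective j.left.appTop)
    {s s' : (yon S).obj T ⟶ F} (h₁ : (yon S).map j ≫ s = (yon S).map j ≫ s') (h₂ : s ≫ f = s' ≫ f) : s = s' := by
  let l : (yon S).obj T ⟶ pullback f f := pullback.lift s s' h₂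
  have hd : RepWith @IsClosedImmersion (pullback.diagonal f) := hf
  have sq := hd.rep.isPullback l
  haveI : IsClosedImmersion (hd.rep.snd l).left :=
    (repWith_yon_map_iff (P := (@IsClosedImmersion : MorphismProperty Scheme.{u})) _).1
      (AlgSpLib.repWith_of_isPullback sq hd)
  have e : (((yon S).map j ≫ s) ≫ pullback.diagonal f) = (yon S).map j ≫ l := by
    refine pullback.hom_ext ?_ ?_
    · simp [l]
    · simp [l, h₁]
  obtain ⟨w, hw⟩ := (yon S).map_surjective (sq.lift ((yon S).map j ≫ s) ((yon S).map j) e)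
  have hwj : w ≫ hd.rep.snd l = j := (yon S).map_injective (by rw [Functor.map_comp, hw, sq.lift_snd])
  haveI : IsIso (hd.rep.snd l).left := IsClosedImmersion.isIso_of_injective_of_isAffine fun x y hxy => by
    apply hj
    rw [← hwj, Over.comp_left, Scheme.Hom.comp_appTop]
    exact congrArg w.left.appTop hxy
  haveI : IsIso (hd.rep.snd l) := by
    have : IsIso ((Over.forget S).map (hd.rep.snd l)) := by assumption
    exact isIso_of_reflects_iso _ (Over.forget S)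
  have hl : (yon S).map (hd.rep.snd l) ≫ l = hd.rep.fst l ≫ pullback.diagonal f := sq.w.symm
  rw [← cancel_epi ((yon S).map (hd.rep.snd l))]
  have a1 := congrArg (· ≫ pullback.fst f f) hl
  have a2 := congrArg (· ≫ pullback.snd f f) hl
  simp only [Category.assoc, l, pullback.lift_fst, pullback.lift_snd, pullback.diagonal_fst,
    pullback.diagonal_snd] at a1 a2
  exact a1.trans a2.symm

end IsoNatClean
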